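import Mathlib
import Cfsg.Agent.Lib.Helper66.PSACORE
import Cfsg.Agent.Lib.Helper29.PSARK
import Cfsg.Agent.Lib.Helper99.PGB.TR
import Cfsg.Agent.Lib.Helper99.PGB.UP
import Cfsg.Agent.Lib.Helper99.SPD.KP

set_option autoImplicit false

universe u

namespace Cfsg.Agent.Lib.Helper99.PSA

open Module LinearMap Cfsg.Agent.Lib.Helper48 Cfsg.Agent.Lib.Helper17
  Cfsg.Agent.Lib.Helper99.PGB Cfsg.Agent.Lib.Helper99.SPD Cfsg.Agent.Lib.Helper66.PSA
  Cfsg.Agent.Lib.Helper29.PSA

/-- the fixed point free part of a semisimple isometry -/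
theorem fpf_part {F V : Type*} [Field F] [AddCommGroup V] [Module F V] [FiniteDimensional F V]
    (B : LinearMap.BilinForm F V) (hnd : ∀ x, (∀ y, B x y = 0) → x = 0) (g T : End F V)
    (hg : IsoB B g) (hc : Commute g T) {m : ℕ} (hmF : (m : F) ≠ 0) (hgm : g ^ m = 1) :
    (∀ w ∈ range (g - 1), T w ∈ range (g - 1)) ∧
    (∀ x ∈ range (g - 1), (∀ y ∈ range (g - 1), B x y = 0) → x = 0) ∧
    (∀ w ∈ range (g - 1), g w = w → w = 0) := by
  have hcompl := isCompl_ker_range g hmF hgm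
  have hort : ∀ w ∈ range (g - 1), ∀ z ∈ ker (g - 1), B w z = 0 := by
    rintro _ ⟨v, rfl⟩ z hz
    have hz' : g z = z := mem_ker_sub_one.1 hz
    rw [LinearMap.sub_apply, Module.End.one_apply, map_sub, LinearMap.sub_apply]
    nth_rewrite 1 [← hz']
    rw [hg, sub_self]
  refine ⟨fun w hw => range_inv hc hw, ?_, ?_⟩
  · intro x hx h
    apply hnd
    intro v
    obtain ⟨z, hz, w, hw, rfl⟩ := exists_dec hcompl v
    rw [map_add, hort x hx z hz, h w hw, add_zero]
  · intro w hw hgw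
    have h3 : w ∈ ker (g - 1) ⊓ range (g - 1) := ⟨mem_ker_sub_one.2 hgw, hw⟩
    rw [hcompl.inf_eq_bot] at h3
    exact (Submodule.mem_bot F).1 h3

theorem fwd_abs {F : Type u} [Field F] [Fintype F] {V : Type u} [AddCommGroup V] [Module F V]
    [FiniteDimensional F V] (B : LinearMap.BilinForm F V) (halt : ∀ v, B v v = 0)
    (hnd : ∀ x, (∀ y, B x y = 0) → x = 0) {n : ℕ} (hdim : finrank F V = 2 * n)
    (T : End F V) (hT : IsoB B T) {r s : ℕ} (hr : r.Prime) (hs : s.Prime) (hr2 : r ≠ 2)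
    (hs2 : s ≠ 2) (hrq : ¬ r ∣ Fintype.card F) (hsq : ¬ s ∣ Fintype.card F)
    (hrF : (r : F) ≠ 0) (hsF : (s : F) ≠ 0)
    (hord : ∀ j, T ^ j = 1 ↔ r * s ∣ j) (k l ηk ηl : ℕ)
    (hk : ∀ j, r ∣ Fintype.card F ^ j - 1 ↔ k ∣ j) (hl : ∀ j, s ∣ Fintype.card F ^ j - 1 ↔ l ∣ j)
    (hηk : (Odd k ∧ ηk = k) ∨ (Even k ∧ 2 * ηk = k))
    (hηl : (Odd l ∧ ηl = l) ∨ (Even l ∧ 2 * ηl = l)) (hkl : ηk ≤ ηl) (hlt : n < ηk + ηl) :
    ∃ t, Odd t ∧ l = k * t := by
  have hTrs : T ^ (r * s) = 1 := (hord _).2 dvd_rfl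
  have hxr : (T ^ s) ^ r = 1 := by rw [← pow_mul, mul_comm, hTrs]
  have hzs : (T ^ r) ^ s = 1 := by rw [← pow_mul, hTrs]
  have hx1 : T ^ s ≠ 1 := by
    intro h
    have h1 := Nat.le_of_dvd hs.pos ((hord s).1 h)
    have := hr.two_le
    nlinarith [hs.pos]
  have hz1 : T ^ r ≠ 1 := by
    intro h
    have h1 := Nat.le_of_dvd hr.pos ((hord r).1 h)
    have := hs.two_le
    nlinarith [hr.pos]
  obtain ⟨hRT, hndR, hfixR⟩ := fpf_part B hnd (T ^ s) T (isoB_pow hT s)
    ((Commute.refl T).pow_left s) hrF hxr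
  -- the first restriction
  obtain ⟨R, hR⟩ : ∃ R, R = range (T ^ s - 1) := ⟨_, rfl⟩
  rw [← hR] at hRT hndR hfixR
  have hT1 : IsoB (B.restrict R) (T.restrict hRT) := fun x y => hT _ _
  have hnd1 : ∀ x : R, (∀ y : R, B.restrict R x y = 0) → x = 0 :=
    fun x hx => Subtype.ext (hndR x.1 x.2 (fun y hy => hx ⟨y, hy⟩))
  have hz1s : ((T.restrict hRT : End F R) ^ r) ^ s = 1 := by
    rw [← pow_mul, restrict_pow_eq_one_iff]
    intro w _
    rw [hTrs, Module.End.one_apply]
  obtain ⟨hRT2, hndR2, hfixR2⟩ := fpf_part (B.restrict R) hnd1 ((T.restrict hRT : End F R) ^ r)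
    (T.restrict hRT) (isoB_pow hT1 r) ((Commute.refl _).pow_left r) hsF hz1s
  obtain ⟨R2, hR2⟩ : ∃ R2, R2 = range ((T.restrict hRT : End F R) ^ r - 1) := ⟨_, rfl⟩
  rw [← hR2] at hRT2 hndR2 hfixR2
  by_cases htriv : Nontrivial R2
  · apply core ((B.restrict R).restrict R2) (fun v => halt _)
      (fun x hx => Subtype.ext (hndR2 x.1 x.2 (fun y hy => hx ⟨y, hy⟩))) (n := n)
      (by
        calc finrank F R2 ≤ finrank F R := Submodule.finrank_le _
          _ ≤ finrank F V := Submodule.finrank_le _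
          _ = 2 * n := hdim)
      ((T.restrict hRT).restrict hRT2) (fun x y => hT _ _) hr hs hr2 hs2 ?_ ?_ ?_ k l ηk ηl hk hl
      hηk hηl hkl hlt
    · rw [restrict_pow_eq_one_iff]
      intro w _
      rw [(restrict_pow_eq_one_iff T R hRT _).2 (fun w _ => by rw [hTrs, Module.End.one_apply]),
        Module.End.one_apply]
    · intro v hv
      have h1 := congrArg Subtype.val hv
      rw [restrict_pow_apply] at h1
      have h2 := congrArg Subtype.val h1
      rw [restrict_pow_apply] at h2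
      have h3 := hfixR _ v.1.2 h2
      exact Subtype.ext (Subtype.ext h3)
    · intro v hv
      have h1 := congrArg Subtype.val hv
      rw [restrict_pow_apply] at h1
      exact Subtype.ext (hfixR2 _ v.2 h1)
  · -- `T ^ r` is trivial on `R`
    exfalso
    have hbot : R2 = ⊥ := by
      by_contra h
      exact htriv (Submodule.nontrivial_iff_ne_bot.2 h)
    have hzR : ∀ w ∈ R, (T ^ r) w = w := by
      intro w hw
      have h1 : ((T.restrict hRT : End F R) ^ r - 1) ⟨w, hw⟩ ∈ R2 := by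
        rw [hR2]
        exact ⟨_, rfl⟩
      rw [hbot, Submodule.mem_bot, LinearMap.sub_apply, Module.End.one_apply, sub_eq_zero] at h1
      have h2 := congrArg Subtype.val h1
      rw [restrict_pow_apply] at h2
      exact h2
    have hdisj : Disjoint R (range (T ^ r - 1)) := by
      rw [Submodule.disjoint_def]
      intro w hw hw2
      exact (fpf_part B hnd (T ^ r) T (isoB_pow hT r) ((Commute.refl T).pow_left r) hsF hzs).2.2
        w hw2 (hzR w hw)
    have h1 := eta_le_rank B halt hnd (T ^ s) (isoB_pow hT s) hr hrq hxr hx1 k ηk hk hηk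
    have h2 := eta_le_rank B halt hnd (T ^ r) (isoB_pow hT r) hs hsq hzs hz1 l ηl hl hηl
    rw [← hR] at h1
    have h3 : finrank F R + finrank F (range (T ^ r - 1)) ≤ finrank F V := by
      rw [← Submodule.finrank_sup_add_finrank_inf_eq, hdisj.eq_bot, finrank_bot, add_zero]
      exact Submodule.finrank_le _
    omega

end Cfsg.Agent.Lib.Helper99.PSA
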